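import Groth.Prelude.Def_Flat
import Groth.Prelude.Def_CInt
import Groth.Agent.Lib.DimCut.Basic
import Groth.Agent.Lib.DimCut.FibreStalk
import Groth.Agent.Lib.AffDom.LocalDim
import Groth.Agent.Lib.NoethTop.KrullDim
import Groth.Agent.Lib.FibreDimAt6.Smooth
import Groth.Agent.Lib.Equidim6.Basic

/-!
# Fibre dimension of a closed subscheme of a smooth family versus its codimension in the fibres
-/

set_option autoImplicit false
set_option linter.style.haveILetI false

universe u

open CategoryTheory CategoryTheory.Limits AlgebraicGeometry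

namespace GrothLib.RelPur21

open GrothLib.AffDom

variable {X S V : Scheme.{u}} (n : ℕ) (f : X ⟶ S) [SmoothOfRelativeDimension n f] (ι : V ⟶ X) [IsClosedImmersion ι]

/-- Small fibres of a closed subscheme force big local rings of the ambient fibres. -/
theorem two_le_dim_fiberStalk (v : V) (h : FlatMor.fibreDimAt (ι ≫ f) v + 2 ≤ (n : WithBot ℕ∞)) :
    (2 : WithBot ℕ∞) ≤ ringKrullDim (CInt.fiberStalk f (ι v)) := by
  haveI : Smooth f := SmoothOfRelativeDimension.smooth n f
  let s := (ι ≫ f) v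
  let φ := CInt.fiberMap ι f s
  haveI : IsClosedImmersion φ :=
    MorphismProperty.of_isPullback (GrothLib.DimCut.isPullback_fiberMap ι f s) ‹IsClosedImmersion ι›
  haveI : LocallyOfFiniteType (f.fiberToSpecResidueField s) :=
    MorphismProperty.pullback_snd f _ inferInstance
  haveI : LocallyOfFiniteType ((ι ≫ f).fiberToSpecResidueField s) :=
    MorphismProperty.pullback_snd (ι ≫ f) _ inferInstance
  let p := (ι ≫ f).asFiber v
  have hz : f.fiberι s (φ p) = ι v := by
    rw [← Scheme.Hom.comp_apply, GrothLib.DimCut.fiberMap_fiberι, Scheme.Hom.comp_apply,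
      Scheme.Hom.fiberι_asFiber]
  have hV : ptDim p + ringKrullDim (((ι ≫ f).fiber s).presheaf.stalk p) = FlatMor.fibreDimAt (ι ≫ f) v :=
    (localDim_eq (K := S.residueField s) ((ι ≫ f).fiberToSpecResidueField s) p).symm
  have hX : ptDim (φ p) + ringKrullDim ((f.fiber s).presheaf.stalk (φ p)) = (n : WithBot ℕ∞) := by
    rw [← localDim_eq (K := S.residueField s) (f.fiberToSpecResidueField s) (φ p),
      GrothLib.Equidim6.localDim_asFiber f s (φ p), GrothLib.FibreDimAt6.fibreDimAt_eq_of_smooth n]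
  rw [← GrothLib.DimCut.dim_stalk_fiber_eq f s (φ p) hz]
  obtain ⟨a, ha⟩ := exists_nat_ptDim (K := S.residueField s) (f.fiberToSpecResidueField s) (φ p)
  rw [← GrothLib.DimCut.ptDim_immersion (K := S.residueField s) (f.fiberToSpecResidueField s) φ p] at ha
  rw [← GrothLib.DimCut.ptDim_immersion (K := S.residueField s) (f.fiberToSpecResidueField s) φ p, ha] at hX
  have hle : ((a + 2 : ℕ) : WithBot ℕ∞) ≤ (n : WithBot ℕ∞) := by
    refine le_trans ?_ h
    rw [← hV, ha, Nat.cast_add]
    exact add_le_add (le_add_of_nonneg_right ringKrullDim_nonneg_of_nontrivial) le_rfl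
  have hn : a + 2 ≤ n := by exact_mod_cast hle
  obtain ⟨e, rfl⟩ := Nat.exists_eq_add_of_le hn
  have := (GrothLib.Equidim6.natCast_add_cancel (n := 2 + e)).1 (hX.trans (by rw [add_assoc]))
  rw [this]
  exact_mod_cast Nat.le_add_right 2 e

/-- Conversely, codimension at least two bounds the dimension of the fibres. -/
theorem fibreDimAt_add_two_le (v : V)
    (h : ∀ z ∈ Set.range ι, f z = (ι ≫ f) v → (2 : WithBot ℕ∞) ≤ ringKrullDim (CInt.fiberStalk f z)) :
    2 ≤ n ∧ FlatMor.fibreDimAt (ι ≫ f) v ≤ ((n - 2 : ℕ) : WithBot ℕ∞) := by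
  haveI : Smooth f := SmoothOfRelativeDimension.smooth n f
  let s := (ι ≫ f) v
  let φ := CInt.fiberMap ι f s
  haveI : IsClosedImmersion φ :=
    MorphismProperty.of_isPullback (GrothLib.DimCut.isPullback_fiberMap ι f s) ‹IsClosedImmersion ι›
  haveI : LocallyOfFiniteType (f.fiberToSpecResidueField s) :=
    MorphismProperty.pullback_snd f _ inferInstance
  have key : ∀ q : (ι ≫ f).fiber s, ∃ a : ℕ, ptDim q = a ∧ a + 2 ≤ n := by
    intro q
    have hq : f.fiberι s (φ q) = ι ((ι ≫ f).fiberι s q) := by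
      rw [← Scheme.Hom.comp_apply, GrothLib.DimCut.fiberMap_fiberι, Scheme.Hom.comp_apply]
    have h2 := h _ ⟨_, rfl⟩ (show f (ι ((ι ≫ f).fiberι s q)) = s by
      rw [← hq, GrothLib.DimCut.apply_fiberι])
    rw [← GrothLib.DimCut.dim_stalk_fiber_eq f s (φ q) hq] at h2
    obtain ⟨a, ha⟩ := exists_nat_ptDim (K := S.residueField s) (f.fiberToSpecResidueField s) (φ q)
    refine ⟨a, (GrothLib.DimCut.ptDim_immersion (K := S.residueField s) (f.fiberToSpecResidueField s) φ q).trans ha, ?_⟩
    have hX := localDim_eq (K := S.residueField s) (f.fiberToSpecResidueField s) (φ q)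
    rw [GrothLib.Equidim6.localDim_asFiber f s (φ q), GrothLib.FibreDimAt6.fibreDimAt_eq_of_smooth n, ha] at hX
    have : ((a + 2 : ℕ) : WithBot ℕ∞) ≤ (n : WithBot ℕ∞) := by
      rw [hX, Nat.cast_add]
      exact add_le_add le_rfl h2
    exact_mod_cast this
  obtain ⟨a, -, ha⟩ := key ((ι ≫ f).asFiber v)
  refine ⟨by omega, ?_⟩
  refine (GrothLib.NoethTop.localDim_le_dim _).trans ?_
  rw [topologicalKrullDim_eq_iSup_ptDim]
  refine iSup_le fun q => ?_
  obtain ⟨b, hb, hb'⟩ := key q
  rw [hb]
  exact_mod_cast (show b ≤ n - 2 by omega)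

end GrothLib.RelPur21
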