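import Groth.Prelude.Def_CInt
import Groth.Agent.Lib.CMMor6.Mor
import Groth.Agent.Lib.DimCut.StalkFibre
import Groth.Agent.Lib.DimCut.FibreStalk
import Groth.Agent.Lib.FibreBC.Basic
import Groth.Agent.Lib.AlgSp.FibreDimBC

/-!
# Local rings of fibres under open immersions and base change
-/

set_option autoImplicit false
set_option backward.isDefEq.respectTransparency false
set_option linter.style.haveILetI false

universe u

open CategoryTheory CategoryTheory.Limits AlgebraicGeometry IsLocalRing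

namespace GrothLib.RelPur21

/-- Restricting the source to an open does not change local rings of fibres. -/
theorem dim_fiberStalk_openImmersion_comp {Y X S : Scheme.{u}} (j : Y ⟶ X) [IsOpenImmersion j] (f : X ⟶ S)
    (y : Y) : ringKrullDim ↑(CInt.fiberStalk (j ≫ f) y) = ringKrullDim ↑(CInt.fiberStalk f (j y)) := by
  obtain ⟨e₁⟩ := GrothLib.CMMor6.nonempty_fibQuot_equiv (j ≫ f) y
  obtain ⟨e₂⟩ := GrothLib.CMMor6.nonempty_fibQuot_equiv f (j y)
  let e := (asIso (j.stalkMap y)).commRingCatIsoToRingEquiv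
  refine ringKrullDim_eq_of_ringEquiv (e₁.symm.trans ((Ideal.quotientEquiv _ _ e.symm ?_).trans e₂))
  rw [Scheme.Hom.stalkMap_comp, CommRingCat.hom_comp, ← Ideal.map_map]
  show Ideal.map (f.stalkMap (j y)).hom _ = Ideal.map e.symm.toRingHom (Ideal.map e.toRingHom _)
  rw [Ideal.map_map, RingEquiv.symm_toRingHom_comp_toRingHom, Ideal.map_id]
  rfl

/-- Enlarging the target along an open immersion does not change local rings of fibres. -/
theorem dim_fiberStalk_comp_openImmersion {Y T S : Scheme.{u}} (a : Y ⟶ T) (i : T ⟶ S) [IsOpenImmersion i]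
    (y : Y) : ringKrullDim ↑(CInt.fiberStalk (a ≫ i) y) = ringKrullDim ↑(CInt.fiberStalk a y) := by
  obtain ⟨e₁⟩ := GrothLib.CMMor6.nonempty_fibQuot_equiv (a ≫ i) y
  obtain ⟨e₂⟩ := GrothLib.CMMor6.nonempty_fibQuot_equiv a y
  refine ringKrullDim_eq_of_ringEquiv (e₁.symm.trans ((Ideal.quotEquivOfEq ?_).trans e₂))
  rw [Scheme.Hom.stalkMap_comp, CommRingCat.hom_comp, ← Ideal.map_map]
  congr 1
  refine le_antisymm (Ideal.map_le_iff_le_comap.2 fun r hr => ?_) fun s hs => ?_
  · exact map_nonunit (i.stalkMap (a y)).hom r hr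
  · obtain ⟨r, rfl⟩ := ((ConcreteCategory.bijective_of_isIso (C := CommRingCat) (i.stalkMap (a y))).2 s)
    exact Ideal.mem_map_of_mem _ ((mem_maximalIdeal r).2 fun h => (mem_maximalIdeal _).1 hs (h.map _))

/-- Local rings of fibres can only grow under base change. -/
theorem dim_fiberStalk_le_of_isPullback {X Y X' Y' : Scheme.{u}} {f : X ⟶ Y} [LocallyOfFiniteType f]
    {g : Y' ⟶ Y} {f' : X' ⟶ Y'} {g' : X' ⟶ X} (hc : IsPullback g' f' f g) (x' : X') :
    ringKrullDim ↑(CInt.fiberStalk f (g' x')) ≤ ringKrullDim ↑(CInt.fiberStalk f' x') := by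
  obtain ⟨i, hi₁, hi⟩ := GrothLib.FibreBC.exists_isPullback_fiber hc (f' x')
  haveI : LocallyOfFiniteType f' := MorphismProperty.of_isPullback hc ‹LocallyOfFiniteType f›
  haveI : LocallyOfFiniteType (f.fiberToSpecResidueField (g (f' x'))) :=
    MorphismProperty.pullback_snd f _ inferInstance
  haveI : LocallyOfFiniteType (f'.fiberToSpecResidueField (f' x')) :=
    MorphismProperty.pullback_snd f' _ inferInstance
  haveI : IsLocallyNoetherian (f.fiber (g (f' x'))) :=
    LocallyOfFiniteType.isLocallyNoetherian (f.fiberToSpecResidueField (g (f' x')))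
  haveI : IsLocallyNoetherian (f'.fiber (f' x')) :=
    LocallyOfFiniteType.isLocallyNoetherian (f'.fiberToSpecResidueField (f' x'))
  haveI : Flat (Spec.map (g.residueFieldMap (f' x'))) := GrothLib.CurveLocus.flat_to_spec_field (k := Y.residueField (g (f' x'))) _
  haveI : Flat i := MorphismProperty.of_isPullback hi.flip ‹Flat (Spec.map (g.residueFieldMap (f' x')))›
  have hz : f.fiberι (g (f' x')) (i (f'.asFiber x')) = g' x' := by
    rw [← Scheme.Hom.comp_apply, hi₁, Scheme.Hom.comp_apply, Scheme.Hom.fiberι_asFiber]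
  rw [← GrothLib.DimCut.dim_stalk_fiber_eq f _ _ hz]
  exact GrothLib.DimCut.dim_stalk_le_of_flat i (f'.asFiber x')

end GrothLib.RelPur21
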