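import Groth.Agent.Lib.FEtLimit21.Basic
import Mathlib.AlgebraicGeometry.AffineTransitionLimit
import Mathlib.RingTheory.Adjoin.FG
import Mathlib.Algebra.Category.Ring.FilteredColimits
import Mathlib.Algebra.Category.Ring.Colimits
import Mathlib.CategoryTheory.Limits.Types.Filtered

/-!
# Base change to an algebra as a limit of base changes to finitely generated subalgebras
-/

set_option autoImplicit false
set_option backward.isDefEq.respectTransparency false
set_option linter.style.haveILetI false
universe u

open CategoryTheory Limits AlgebraicGeometry Opposite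
open GrothLib.FEtLimit21

noncomputable section

namespace GrothLib.RelPur21.BC

variable (k K : Type u) [CommRing k] [CommRing K] [Algebra k K]

/-- The finitely generated subalgebras. -/
abbrev FinSub : Type u := {L : Subalgebra k K // L.FG}

instance : IsDirected (FinSub k K) (· ≤ ·) :=
  ⟨fun L M => ⟨⟨L.1 ⊔ M.1, L.2.sup M.2⟩, le_sup_left (b := M.1), le_sup_right (a := L.1)⟩⟩

/-- The trivial subextension. -/
def botSub : FinSub k K := ⟨⊥, Subalgebra.fg_bot⟩

instance : Nonempty (FinSub k K) := ⟨botSub k K⟩

/-- The diagram of finite subextensions. -/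
def subFunctor : FinSub k K ⥤ CommRingCat.{u} where
  obj L := CommRingCat.of ↥L.1
  map h := CommRingCat.ofHom (Subalgebra.inclusion (leOfHom h)).toRingHom
  map_id L := rfl
  map_comp f g := rfl

/-- The cocone of inclusions. -/
def subCocone : Cocone (subFunctor k K) where
  pt := CommRingCat.of K
  ι := { app := fun L => CommRingCat.ofHom (algebraMap ↥L.1 K)
         naturality := fun L M h => rfl }

/-- An algebraic extension is the colimit of its finite subextensions. -/
def isColimitSubCocone : IsColimit (subCocone k K) := by
  haveI := reflectsColimit_of_reflectsIsomorphisms (subFunctor k K) (forget CommRingCat)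
  refine isColimitOfReflects (forget CommRingCat) (Types.FilteredColimit.isColimitOf _ _ (fun (a : K) => ?_) ?_)
  · exact ⟨⟨Algebra.adjoin k {a}, Subalgebra.fg_def.mpr ⟨{a}, Set.finite_singleton a, rfl⟩⟩,
      ⟨a, Algebra.self_mem_adjoin_singleton k a⟩, rfl⟩
  · intro L M x y h
    refine ⟨⟨L.1 ⊔ M.1, L.2.sup M.2⟩, homOfLE (show L.1 ≤ L.1 ⊔ M.1 from le_sup_left),
      homOfLE (show M.1 ≤ L.1 ⊔ M.1 from le_sup_right), ?_⟩
    exact Subtype.ext h

/-- The spectra of the finite subextensions. -/
def specDiag : (FinSub k K)ᵒᵖ ⥤ Scheme.{u} := (subFunctor k K).op ⋙ Scheme.Spec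

/-- The cone from the spectrum of the extension. -/
def specCone : Cone (specDiag k K) := Scheme.Spec.mapCone (subCocone k K).op

/-- The spectrum of an algebraic extension is the limit of those of its finite subextensions. -/
def isLimitSpecCone : IsLimit (specCone k K) :=
  isLimitOfPreserves Scheme.Spec (isColimitSubCocone k K).op

variable {k} {X : Scheme.{u}} (f : X ⟶ Spec (CommRingCat.of k))

/-- The structure map of a stage. -/
abbrev stageMap (L : Subalgebra k K) : Spec (CommRingCat.of L) ⟶ Spec (CommRingCat.of k) :=
  Spec.map (CommRingCat.ofHom (algebraMap k L))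

omit [CommRing K] [Algebra k K] in
variable {K} in
/-- The transition between stages. -/
theorem inclusion_stageMap [CommRing K] [Algebra k K] {L M : Subalgebra k K} (h : L ≤ M) :
    Spec.map (CommRingCat.ofHom (Subalgebra.inclusion h).toRingHom) ≫ stageMap K L = stageMap K M := by
  rw [stageMap, stageMap, ← Spec.map_comp]; rfl

/-- The base changes to finite subextensions. -/
def bcDiag : (FinSub k K)ᵒᵖ ⥤ Scheme.{u} where
  obj L := pullback f (stageMap K L.unop.1)
  map {L M} h := pullback.map f (stageMap K L.unop.1) f (stageMap K M.unop.1) (𝟙 X)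
    ((specDiag k K).map h) (𝟙 _) (by simp) (by
      rw [Category.comp_id]
      exact (inclusion_stageMap (leOfHom h.unop)).symm)
  map_id L := by
    apply pullback.hom_ext
    · simp
    · erw [pullback.lift_snd, (specDiag k K).map_id, Category.comp_id]
  map_comp g h := by
    apply pullback.hom_ext <;> simp

@[reassoc (attr := simp)]
theorem bcDiag_map_fst {L M : (FinSub k K)ᵒᵖ} (h : L ⟶ M) :
    (bcDiag K f).map h ≫ pullback.fst f (stageMap K M.unop.1) = pullback.fst f (stageMap K L.unop.1) :=
  (pullback.lift_fst _ _ _).trans (Category.comp_id _)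

@[reassoc (attr := simp)]
theorem bcDiag_map_snd {L M : (FinSub k K)ᵒᵖ} (h : L ⟶ M) :
    (bcDiag K f).map h ≫ pullback.snd f (stageMap K M.unop.1) =
      pullback.snd f (stageMap K L.unop.1) ≫ (specDiag k K).map h :=
  pullback.lift_snd _ _ _

/-- The map from the base change to the whole extension to a stage. -/
def toStage (L : Subalgebra k K) :
    pullback f (Spec.map (CommRingCat.ofHom (algebraMap k K))) ⟶ pullback f (stageMap K L) :=
  pullback.lift (pullback.fst _ _) (pullback.snd _ _ ≫ Spec.map (CommRingCat.ofHom (algebraMap L K)))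
    (by rw [Category.assoc, pullback.condition, stageMap, ← Spec.map_comp, ← CommRingCat.ofHom_comp,
      ← IsScalarTower.algebraMap_eq])

@[reassoc (attr := simp)]
theorem toStage_fst (L : Subalgebra k K) :
    toStage K f L ≫ pullback.fst f (stageMap K L) = pullback.fst _ _ :=
  pullback.lift_fst _ _ _

@[reassoc (attr := simp)]
theorem toStage_snd (L : Subalgebra k K) :
    toStage K f L ≫ pullback.snd f (stageMap K L) =
      pullback.snd _ _ ≫ Spec.map (CommRingCat.ofHom (algebraMap L K)) :=
  pullback.lift_snd _ _ _

/-- The cone from the base change to the whole extension. -/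
def bcCone : Cone (bcDiag K f) where
  pt := pullback f (Spec.map (CommRingCat.ofHom (algebraMap k K)))
  π :=
    { app := fun L => toStage K f L.unop.1
      naturality := fun L M h => by
        refine (Category.id_comp _).trans ?_
        apply pullback.hom_ext
        · simp
        · rw [Category.assoc, bcDiag_map_snd, toStage_snd, toStage_snd_assoc]
          exact congrArg (pullback.snd _ _ ≫ ·) ((specCone k K).w h).symm }

/-- The base change to an algebraic extension is the limit of the finite base changes. -/
def isLimitBcCone : IsLimit (bcCone K f) := by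
  have ex : ∀ s : Cone (bcDiag K f), ∃ m : s.pt ⟶ (bcCone K f).pt,
      (∀ L, m ≫ (bcCone K f).π.app L = s.π.app L) ∧
      ∀ m' : s.pt ⟶ (bcCone K f).pt, (∀ L, m' ≫ (bcCone K f).π.app L = s.π.app L) → m' = m := by
    intro s
    let s' : Cone (specDiag k K) :=
      { pt := s.pt
        π :=
          { app := fun L => s.π.app L ≫ pullback.snd f (stageMap K L.unop.1)
            naturality := fun L M h => by
              refine (Category.id_comp _).trans ?_
              rw [← s.w h, Category.assoc, bcDiag_map_snd, Category.assoc] } }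
    let t : s.pt ⟶ Spec (CommRingCat.of K) := (isLimitSpecCone k K).lift s'
    have ht : ∀ L : (FinSub k K)ᵒᵖ, t ≫ Spec.map (CommRingCat.ofHom (algebraMap L.unop.1 K)) =
        s.π.app L ≫ pullback.snd f (stageMap K L.unop.1) := fun L => (isLimitSpecCone k K).fac s' L
    let top : (FinSub k K)ᵒᵖ := op (botSub k K)
    have hle : ∀ L : (FinSub k K)ᵒᵖ, top.unop ≤ L.unop := fun L => show (⊥ : Subalgebra k K) ≤ _ from bot_le
    have hfst : ∀ L : (FinSub k K)ᵒᵖ, s.π.app L ≫ pullback.fst f (stageMap K L.unop.1) =
        s.π.app top ≫ pullback.fst f (stageMap K top.unop.1) := fun L => by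
      rw [← s.w (homOfLE (hle L)).op, Category.assoc]
      erw [bcDiag_map_fst]
    have cond : (s.π.app top ≫ pullback.fst f (stageMap K top.unop.1)) ≫ f =
        t ≫ Spec.map (CommRingCat.ofHom (algebraMap k K)) := by
      rw [Category.assoc, pullback.condition, ← Category.assoc, ← ht top, Category.assoc, stageMap,
        ← Spec.map_comp, ← CommRingCat.ofHom_comp, ← IsScalarTower.algebraMap_eq]
    refine ⟨pullback.lift _ t cond, fun L => ?_, fun m' hm' => ?_⟩
    · apply pullback.hom_ext
      · show (_ ≫ toStage K f L.unop.1) ≫ _ = _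
        rw [Category.assoc, toStage_fst, pullback.lift_fst]; exact (hfst L).symm
      · show (_ ≫ toStage K f L.unop.1) ≫ _ = _
        rw [Category.assoc, toStage_snd, pullback.lift_snd_assoc]; exact ht L
    · apply pullback.hom_ext
      · rw [pullback.lift_fst, ← hm' top]
        show m' ≫ _ = (m' ≫ toStage K f top.unop.1) ≫ _
        rw [Category.assoc, toStage_fst]
      · rw [pullback.lift_snd]
        refine (isLimitSpecCone k K).hom_ext fun L => ?_
        show (m' ≫ pullback.snd _ _) ≫ Spec.map (CommRingCat.ofHom (algebraMap L.unop.1 K)) =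
          t ≫ Spec.map (CommRingCat.ofHom (algebraMap L.unop.1 K))
        rw [ht, ← hm' L]
        show _ = (m' ≫ toStage K f L.unop.1) ≫ _
        rw [Category.assoc, Category.assoc, toStage_snd]
  exact
    { lift := fun s => (ex s).choose
      fac := fun s => (ex s).choose_spec.1
      uniq := fun s => (ex s).choose_spec.2 }

instance (L : (FinSub k K)ᵒᵖ) [CompactSpace X] : CompactSpace ((bcDiag K f).obj L) :=
  inferInstanceAs (CompactSpace ↥(pullback f (stageMap K L.unop.1)))

instance (L : (FinSub k K)ᵒᵖ) [QuasiSeparatedSpace X] : QuasiSeparatedSpace ((bcDiag K f).obj L) :=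
  quasiSeparatedSpace_of_quasiSeparated (pullback.fst f (stageMap K L.unop.1))

instance (L M : (FinSub k K)ᵒᵖ) (h : L ⟶ M) : IsAffineHom ((bcDiag K f).map h) := by
  haveI (N : Subalgebra k K) : IsAffineHom (pullback.fst f (stageMap K N)) :=
    MorphismProperty.pullback_fst (P := @IsAffineHom) _ _ (isAffineHom_of_isAffine _)
  haveI : IsAffineHom ((bcDiag K f).map h ≫ pullback.fst f (stageMap K M.unop.1)) := by
    rw [bcDiag_map_fst]; infer_instance
  exact IsAffineHom.of_comp _ (pullback.fst f (stageMap K M.unop.1))

variable [CompactSpace X] [QuasiSeparatedSpace X]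

/-- Finite étale covers over a field extension come from a finitely generated subalgebra. -/
theorem exists_cover_finSub (V : FEt.Cat (pullback f (Spec.map (CommRingCat.ofHom (algebraMap k K))))) :
    ∃ (L : Subalgebra k K) (_ : L.FG) (VL : FEt.Cat (pullback f (stageMap K L))),
      Nonempty ((FEt.restrict (toStage K f L)).obj VL ≅ V) := by
  obtain ⟨L, VL, hV⟩ := exists_cover (bcDiag K f) (bcCone K f) (isLimitBcCone K f) V
  exact ⟨L.unop.1, L.unop.2, VL, hV⟩

end GrothLib.RelPur21.BC
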