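import Mathlib.RingTheory.Smooth.StandardSmooth
import Mathlib.RingTheory.Extension.Presentation.Core
import Mathlib.AlgebraicGeometry.Pullbacks
import Mathlib.RingTheory.FiniteType
import Mathlib.RingTheory.Adjoin.FG
import Mathlib.RingTheory.Polynomial.Basic

/-!
# A Noetherian model of a standard smooth algebra containing given elements
-/

set_option autoImplicit false
set_option linter.style.haveILetI false

universe u

open CategoryTheory CategoryTheory.Limits AlgebraicGeometry TensorProduct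

namespace GrothLib.RelPur21

theorem exists_model (n : ℕ) (R B : Type u) [CommRing R] [CommRing B] [Algebra R B]
    [Algebra.IsStandardSmoothOfRelativeDimension n R B] (T : Finset B) :
    ∃ (A₀ : Subalgebra ℤ R) (B₀ : Type u) (_ : CommRing B₀) (_ : Algebra A₀ B₀) (ψ : B₀ →+* B) (T₀ : Set B₀),
      IsNoetherianRing A₀ ∧ IsNoetherianRing B₀ ∧ Algebra.IsStandardSmoothOfRelativeDimension n A₀ B₀ ∧
      ψ '' T₀ = (T : Set B) ∧
      IsPullback (Spec.map (CommRingCat.ofHom ψ)) (Spec.map (CommRingCat.ofHom (algebraMap R B)))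
        (Spec.map (CommRingCat.ofHom (algebraMap A₀ B₀))) (Spec.map (CommRingCat.ofHom (algebraMap A₀ R))) := by
  classical
  obtain ⟨ι, σ, _, _, P, hP⟩ :=
    Algebra.IsStandardSmoothOfRelativeDimension.out (n := n) (R := R) (S := B)
  let s : Set R := P.coeffs ∪ ⋃ t ∈ (T : Set B), ((P.σ t).coeffs : Set R)
  have hs : s.Finite := P.finite_coeffs.union (T.finite_toSet.biUnion fun t _ => Finset.finite_toSet _)
  let A₀ := Algebra.adjoin ℤ s
  haveI : P.HasCoeffs A₀ := ⟨fun r hr => by
    exact ⟨⟨r, Algebra.subset_adjoin (Or.inl hr)⟩, rfl⟩⟩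
  have hT : ∀ t ∈ T, ∃ p : MvPolynomial ι A₀, MvPolynomial.map (algebraMap A₀ R) p = P.σ t := fun t ht => by
    apply MvPolynomial.mem_range_map_iff_coeffs_subset.mpr
    intro r hr
    exact ⟨⟨r, Algebra.subset_adjoin (Or.inr (Set.mem_biUnion ht hr))⟩, rfl⟩
  choose p hp using hT
  let e := P.toPresentation.tensorModelOfHasCoeffsEquiv A₀
  let ψ : P.ModelOfHasCoeffs A₀ →+* B :=
    (e : R ⊗[A₀] P.ModelOfHasCoeffs A₀ →+* B).comp Algebra.TensorProduct.includeRight.toRingHom
  haveI hAfin : Algebra.FiniteType ℤ A₀ := (Subalgebra.fg_iff_finiteType A₀).mp ⟨hs.toFinset, by simp [A₀]⟩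
  haveI hN : IsNoetherianRing A₀ := Algebra.FiniteType.isNoetherianRing ℤ A₀
  haveI hB : IsNoetherianRing (P.ModelOfHasCoeffs A₀) :=
    Algebra.FiniteType.isNoetherianRing A₀ _
  refine ⟨A₀, P.ModelOfHasCoeffs A₀, inferInstance, inferInstance, ψ,
    Set.range fun t : T => Ideal.Quotient.mk _ (p t t.2), hN, hB,
    ⟨_, _, _, inferInstance, P.ofHasCoeffs A₀, hP⟩, ?_, ?_⟩
  · have key : ∀ t (ht : t ∈ T), ψ (Ideal.Quotient.mk _ (p t ht)) = t := fun t ht => by
      show e (1 ⊗ₜ Ideal.Quotient.mk _ (p t ht)) = t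
      rw [Algebra.Presentation.tensorModelOfHasCoeffsEquiv_tmul, map_one, one_mul,
        ← MvPolynomial.aeval_map_algebraMap R, hp, Algebra.Generators.aeval_val_σ]
    ext b
    constructor
    · rintro ⟨_, ⟨⟨t, ht⟩, rfl⟩, rfl⟩
      rw [key t ht]; exact ht
    · intro hb
      exact ⟨_, ⟨⟨b, hb⟩, rfl⟩, key b hb⟩
  · have sqP : IsPushout (CommRingCat.ofHom (algebraMap A₀ R))
        (CommRingCat.ofHom (algebraMap A₀ (P.ModelOfHasCoeffs A₀)))
        (CommRingCat.ofHom (algebraMap R B)) (CommRingCat.ofHom ψ) :=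
      (CommRingCat.isPushout_tensorProduct A₀ R (P.ModelOfHasCoeffs A₀)).of_iso (Iso.refl _) (Iso.refl _)
        (Iso.refl _) e.toRingEquiv.toCommRingCatIso (by simp) (by simp)
        (CommRingCat.hom_ext (RingHom.ext fun x => by simpa using e.commutes x))
        (CommRingCat.hom_ext (RingHom.ext fun x => rfl))
    exact (isPullback_SpecMap_of_isPushout _ _ _ _ sqP).flip

end GrothLib.RelPur21
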