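import Groth.Agent.Lib.RhoShBig.Basic
import Groth.Agent.Lib.FEt21.AppBijective
import Groth.Agent.Lib.FEt21.EtaleLocal
import Groth.Agent.S7757
import Mathlib.RingTheory.Regular.Flat

/-!
# Sections across a closed set of fibre codimension at least two, and full faithfulness
-/

set_option autoImplicit false
set_option backward.isDefEq.respectTransparency false
set_option linter.style.haveILetI false

universe u

open CategoryTheory CategoryTheory.Limits AlgebraicGeometry TopologicalSpace IsLocalRing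
open RingTheory.Sequence
open GrothLib.Depth (DepthTwoGen res res_res germ_res)

namespace GrothLib.RelPur21

/-- A weakly regular pair in the maximal ideal of a flat family with big fibre dimension. -/
theorem exists_pair {X S : Scheme.{u}} (f : X ⟶ S) [Smooth f] (x : X)
    (hx : (2 : WithBot ℕ∞) ≤ ringKrullDim ↑(CInt.fiberStalk f x)) :
    ∃ a b : X.presheaf.stalk x, a ∈ maximalIdeal (X.presheaf.stalk x) ∧
      b ∈ maximalIdeal (X.presheaf.stalk x) ∧ IsWeaklyRegular (X.presheaf.stalk x) [a, b] := by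
  let A := S.presheaf.stalk (f x)
  let B := X.presheaf.stalk x
  let F := CInt.fiberStalk f x
  letI : Algebra A B := (f.stalkMap x).hom.toAlgebra
  haveI : IsLocalHom (algebraMap A B) := inferInstanceAs (IsLocalHom (f.stalkMap x).hom)
  haveI : Module.Flat A B := Flat.stalkMap f x
  have hess : CAlgX.IsEssFinitePresentation A B := GrothLib.FibreFlat.isEssFinitePresentation_stalkMap f x
  obtain ⟨hsurj, hker⟩ := GrothLib.FibreFlat.fiberι_stalkMap' f (f x) (f.asFiber x) x
    (f.fiberι_asFiber x)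
  let φ : B →+* F :=
    ((X.presheaf.stalkCongr (.of_eq (f.fiberι_asFiber x).symm)).hom ≫
      (f.fiberι (f x)).stalkMap (f.asFiber x)).hom
  haveI hsm : Smooth (f.fiberToSpecResidueField (f x)) :=
      inferInstanceAs (Smooth (pullback.snd f (S.fromSpecResidueField (f x))))
  haveI : IsRegularLocalRing F :=
    @GrothLib.CotTangent.isRegularLocalRing_stalk _ _ _ (f.fiberToSpecResidueField (f x)) hsm (f.asFiber x)
  obtain ⟨rs, hreg, hmem, hlen⟩ := GrothLib.CMFree.exists_weaklyRegular_of_isRegularLocalRing F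
  have h2 : 2 ≤ rs.length := by
    have := hx.trans_eq hlen.symm
    exact_mod_cast this
  obtain ⟨r₁, r₂, rest, rfl⟩ : ∃ r₁ r₂ rest, rs = r₁ :: r₂ :: rest := by
    match rs, h2 with
    | r₁ :: r₂ :: rest, _ => exact ⟨r₁, r₂, rest, rfl⟩
  have hreg2 : IsWeaklyRegular F [r₁, r₂] := by
    rw [isWeaklyRegular_cons_iff, isWeaklyRegular_cons_iff] at hreg ⊢
    exact ⟨hreg.1, hreg.2.1, IsWeaklyRegular.nil _ _⟩
  choose g hg using hsurj
  have hgm : ∀ r ∈ maximalIdeal F, g r ∈ maximalIdeal B := fun r hr => by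
    rw [mem_maximalIdeal, mem_nonunits_iff] at hr ⊢
    exact fun hu => hr (hg r ▸ hu.map φ)
  refine ⟨g r₁, g r₂, hgm _ (hmem _ (by simp)), hgm _ (hmem _ (by simp)), ?_⟩
  refine GrothLib.RhoShBig.isWeaklyRegular_of_fibre_essFP hess [g r₁, g r₂] B ?_
  let e : (B ⧸ ((maximalIdeal A).map (algebraMap A B) • ⊤ : Submodule B B)) ≃+ F :=
    (Submodule.quotEquivOfEq _ (RingHom.ker φ) (by
      rw [Ideal.smul_eq_mul, Ideal.mul_top]; exact hker.symm)).toAddEquiv.trans
      (RingHom.quotientKerEquivOfSurjective (f := φ) fun y => ⟨g y, hg y⟩).toAddEquiv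
  refine (e.isWeaklyRegular_congr (bs := [r₁, r₂]) ?_).mpr hreg2
  refine (List.forall₂_map_left_iff (f := g) (l := [r₁, r₂])).mpr (List.forall₂_same.mpr fun r _ y => ?_)
  obtain ⟨y, rfl⟩ := Submodule.Quotient.mk_surjective _ y
  rw [← Submodule.Quotient.mk_smul]
  change φ (g r • y) = r • φ y
  rw [smul_eq_mul, smul_eq_mul, map_mul]
  exact congrArg (· * φ y) (hg r)

/-- Depth two along a closed set is kept by flat base change. -/
theorem depthTwoGen_preimage {Z X : Scheme.{u}} (g : Z ⟶ X) [Flat g] {U : X.Opens} (h : DepthTwoGen U) :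
    DepthTwoGen (g ⁻¹ᵁ U) := by
  intro z hz
  obtain ⟨a, b, ha, hb, hab⟩ := h (g z) hz
  letI : Algebra (X.presheaf.stalk (g z)) (Z.presheaf.stalk z) := (g.stalkMap z).hom.toAlgebra
  haveI : Module.Flat (X.presheaf.stalk (g z)) (Z.presheaf.stalk z) := Flat.stalkMap g z
  haveI : IsLocalHom (algebraMap (X.presheaf.stalk (g z)) (Z.presheaf.stalk z)) :=
    inferInstanceAs (IsLocalHom (g.stalkMap z).hom)
  exact ⟨algebraMap _ _ a, algebraMap _ _ b, map_nonunit _ _ ha, map_nonunit _ _ hb,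
    hab.of_flat (S := Z.presheaf.stalk z)⟩

/-- Sections extend uniquely to an affine open when a quasi-compact part of the open has depth two. -/
theorem res_bijective_of_qc {Y : Scheme.{u}} {U₀ U : Y.Opens} (hle : U₀ ≤ U) [QuasiCompact U₀.ι]
    (h₀ : DepthTwoGen U₀) {W : Y.Opens} (hW : IsAffineOpen W) :
    Function.Bijective (res (X := Y) (inf_le_left : W ⊓ U ≤ W)) := by
  have hd := GrothLib.Depth.isSchematicallyDense_of_depthOneGen h₀.one
  have h' : W ⊓ U₀ ≤ W ⊓ U := inf_le_inf_left _ hle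
  refine ⟨fun s t hst => hd W ?_, fun s => ?_⟩
  · have := congrArg (res h') hst
    rw [res_res, res_res] at this
    exact this
  · obtain ⟨c, hc⟩ := GrothLib.Depth.res_surjective_of_depthTwoGen h₀ hW (res h' s)
    refine ⟨c, hd (W ⊓ U) ?_⟩
    have h'' : W ⊓ U ⊓ U₀ ≤ W ⊓ U₀ := inf_le_inf_right _ inf_le_left
    show res (inf_le_left : W ⊓ U ⊓ U₀ ≤ W ⊓ U) (res inf_le_left c) = res (inf_le_left : W ⊓ U ⊓ U₀ ≤ W ⊓ U) s
    have := congrArg (res h'') hc
    rw [res_res, res_res] at this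
    rw [res_res]
    exact this

theorem res_bijective_congr {Y : Scheme.{u}} {A B A' B' : Y.Opens} {h : B ≤ A} {h' : B' ≤ A'} (hA : A = A')
    (hB : B = B') (H : Function.Bijective (res (X := Y) h)) : Function.Bijective (res (X := Y) h') := by
  subst hA hB
  exact H

/-- Local data: a quasi-compact open of depth two inside `U`. -/
def LocallyDepthTwo {Y : Scheme.{u}} (U : Y.Opens) : Prop :=
  DepthTwoGen U ∧ ∀ y : Y, y ∉ U → ∃ (N : Y.Opens) (U₀ : (N : Scheme.{u}).Opens), y ∈ N ∧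
    U₀ ≤ N.ι ⁻¹ᵁ U ∧ QuasiCompact U₀.ι ∧ DepthTwoGen U₀

theorem LocallyDepthTwo.preimage {Z X : Scheme.{u}} {U : X.Opens} (h : LocallyDepthTwo U) (g : Z ⟶ X)
    [Flat g] : LocallyDepthTwo (g ⁻¹ᵁ U) := by
  refine ⟨depthTwoGen_preimage g h.1, fun z hz => ?_⟩
  obtain ⟨N, U₀, hN, hle, hqc, hd⟩ := h.2 (g z) hz
  haveI : Flat (g ∣_ N) := MorphismProperty.of_isPullback (isPullback_morphismRestrict g N).flip ‹Flat g›
  refine ⟨g ⁻¹ᵁ N, (g ∣_ N) ⁻¹ᵁ U₀, hN, fun w hw => ?_, ?_, depthTwoGen_preimage _ hd⟩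
  · have := hle hw
    change N.ι ((g ∣_ N) w) ∈ U at this
    rwa [← Scheme.Hom.comp_apply, morphismRestrict_ι, Scheme.Hom.comp_apply] at this
  · exact MorphismProperty.of_isPullback (isPullback_morphismRestrict (g ∣_ N) U₀) hqc

/-- Sections extend uniquely across a closed set which is locally of depth two. -/
theorem res_bijective {Y : Scheme.{u}} {U : Y.Opens} (h : LocallyDepthTwo U) (O : Y.Opens) :
    Function.Bijective (res (X := Y) (inf_le_left : O ⊓ U ≤ O)) := by
  classical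
  have hd := GrothLib.Depth.isSchematicallyDense_of_depthOneGen h.1.one
  refine ⟨hd O, fun s => ?_⟩
  have hloc : ∀ y : O, ∃ (W : Y.Opens) (_ : W ≤ O), (y : Y) ∈ W ∧
      Function.Surjective (res (X := Y) (inf_le_left : W ⊓ U ≤ W)) := by
    rintro ⟨y, hy⟩
    by_cases hyU : y ∈ U
    · refine ⟨O ⊓ U, inf_le_left, ⟨hy, hyU⟩, fun t => ⟨res (X := Y) ?_ t, ?_⟩⟩
      · exact le_inf le_rfl inf_le_right
      · rw [res_res]
        exact congr($(Y.presheaf.map_id _) t)
    · obtain ⟨N, U₀, hyN, hle, hqc, hd₀⟩ := h.2 y hyU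
      obtain ⟨_, ⟨W, hW, rfl⟩, hyW, hWle⟩ :=
        (N : Scheme.{u}).isBasis_affineOpens.exists_subset_of_mem_open
          (show (⟨y, hyN⟩ : N) ∈ N.ι ⁻¹ᵁ O from hy) (N.ι ⁻¹ᵁ O).2
      have hb := res_bijective_of_qc hle hd₀ (hW : IsAffineOpen W)
      refine ⟨N.ι ''ᵁ W, ?_, ⟨⟨y, hyN⟩, hyW, rfl⟩, ?_⟩
      · rintro _ ⟨w, hw, rfl⟩; exact hWle hw
      refine (res_bijective_congr (h' := (inf_le_left : N.ι ''ᵁ W ⊓ U ≤ N.ι ''ᵁ W))
        (A := N.ι ''ᵁ W) (B := N.ι ''ᵁ (W ⊓ N.ι ⁻¹ᵁ U)) (h := N.ι.image_mono inf_le_left) rfl ?_ ?_).2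
      · ext w
        constructor
        · rintro ⟨v, ⟨hv, hvU⟩, rfl⟩; exact ⟨⟨v, hv, rfl⟩, hvU⟩
        · rintro ⟨⟨v, hv, rfl⟩, hvU⟩; exact ⟨v, ⟨hv, hvU⟩, rfl⟩
      · exact hb
  choose W hWO hyW hsurj using hloc
  choose t ht using fun y => hsurj y (res (inf_le_inf_right U (hWO y)) s)
  obtain ⟨c, hc, -⟩ := Y.sheaf.existsUnique_gluing' (fun y : O => W y) O (fun y => homOfLE (hWO y))
    (fun y hy => Opens.mem_iSup.mpr ⟨⟨y, hy⟩, hyW _⟩) t (fun i j => by
      refine hd (W i ⊓ W j) ?_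
      show res (inf_le_left : W i ⊓ W j ⊓ U ≤ W i ⊓ W j) (res inf_le_left (t i)) =
        res (inf_le_left : W i ⊓ W j ⊓ U ≤ W i ⊓ W j) (res inf_le_right (t j))
      have hi := congrArg (res (le_inf (inf_le_left.trans inf_le_left) inf_le_right :
        W i ⊓ W j ⊓ U ≤ W i ⊓ U)) (ht i)
      have hj := congrArg (res (le_inf (inf_le_left.trans inf_le_right) inf_le_right :
        W i ⊓ W j ⊓ U ≤ W j ⊓ U)) (ht j)
      rw [res_res, res_res] at hi hj
      rw [res_res, res_res]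
      exact hi.trans hj.symm)
  refine ⟨c, ?_⟩
  refine TopCat.Presheaf.section_ext Y.sheaf (O ⊓ U) _ _ fun y hy => ?_
  show Y.presheaf.germ (O ⊓ U) y hy _ = Y.presheaf.germ (O ⊓ U) y hy _
  let i : O := ⟨y, hy.1⟩
  exact (germ_res _ y hy c).trans <| (germ_res (hWO i) y (hyW i) c).symm.trans <|
    (congrArg (Y.presheaf.germ (W i) y (hyW i)) (hc i)).trans <|
    (germ_res inf_le_left y ⟨hyW i, hy.2⟩ (t i)).symm.trans <|
    (congrArg (Y.presheaf.germ (W i ⊓ U) y ⟨hyW i, hy.2⟩) (ht i)).trans (germ_res _ y _ s)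

/-- The structure sheaf is its direct image from such an open. -/
theorem app_bijective {Y T : Scheme.{u}} (j : T ⟶ Y) [IsOpenImmersion j] (h : LocallyDepthTwo j.opensRange)
    (O : Y.Opens) : Function.Bijective (j.app O) := by
  have h1 : Function.Bijective (j.opensRange.ι.app O) := by
    rw [Scheme.Opens.ι_app]
    refine res_bijective_congr (h := (inf_le_left : O ⊓ j.opensRange ≤ O)) rfl ?_ (res_bijective h O)
    rw [Scheme.Hom.image_preimage_eq_opensRange_inf, Scheme.Opens.opensRange_ι, inf_comm]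
  have h2 : j = j.isoOpensRange.hom ≫ j.opensRange.ι := (Scheme.Hom.isoOpensRange_hom_ι j).symm
  suffices Function.Bijective ((j.isoOpensRange.hom ≫ j.opensRange.ι).app O) by rwa [← h2] at this
  rw [Scheme.Hom.comp_app]
  show Function.Bijective ((j.isoOpensRange.hom.app (j.opensRange.ι ⁻¹ᵁ O)).hom ∘ (j.opensRange.ι.app O).hom)
  exact Function.Bijective.comp
    (ConcreteCategory.bijective_of_isIso (C := CommRingCat) (j.isoOpensRange.hom.app (j.opensRange.ι ⁻¹ᵁ O))) h1

/-- Restriction to such an open is fully faithful. -/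
theorem fullyFaithful {Y T : Scheme.{u}} (j : T ⟶ Y) [IsOpenImmersion j] (h : LocallyDepthTwo j.opensRange) :
    (FEt.restrict j).Full ∧ (FEt.restrict j).Faithful :=
  Groth.Agent.S7757.result j (app_bijective j h)

/-- It stays so after étale base change. -/
theorem etaleFF {Y T : Scheme.{u}} (j : T ⟶ Y) [IsOpenImmersion j] (h : LocallyDepthTwo j.opensRange) :
    GrothLib.FEt21.EtaleFF j := by
  intro Z g hg
  haveI := hg
  refine fullyFaithful (pullback.fst g j) ?_
  rw [show (pullback.fst g j).opensRange = g ⁻¹ᵁ j.opensRange from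
    Opens.ext (IsOpenImmersion.range_pullbackFst j g)]
  exact h.preimage g

end GrothLib.RelPur21
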