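import Groth.Agent.RelPur21.Dim
import Groth.Agent.RelPur21.Sections
import Groth.Agent.RelPur21.Noeth
import Groth.Agent.RelPur21.Limit
import Groth.Agent.RelPur21.FibreLemmas
import Groth.Agent.RelPur21.Model
import Groth.Agent.S0402
import Groth.Agent.Lib.AlgSp.FibreDimBC

/-!
# Relative purity near a point of the complement
-/

set_option autoImplicit false
set_option backward.isDefEq.respectTransparency false
set_option linter.style.haveILetI false

universe u

open CategoryTheory CategoryTheory.Limits AlgebraicGeometry TopologicalSpace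
open GrothLib.Depth (DepthTwoGen)

namespace GrothLib.RelPur21

/-- Finitely many equations cutting out a closed set on one fibre. -/
theorem exists_finset_fibre {R B : Type u} [CommRing R] [CommRing B] [Algebra R B] [Algebra.FiniteType R B]
    (p : PrimeSpectrum R) (Z : Set (PrimeSpectrum B)) (hZ : IsClosed Z) :
    ∃ T : Finset B, Z ⊆ PrimeSpectrum.zeroLocus (T : Set B) ∧
      ∀ q ∈ PrimeSpectrum.zeroLocus (T : Set B), PrimeSpectrum.comap (algebraMap R B) q = p → q ∈ Z := by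
  classical
  obtain ⟨J, rfl⟩ := (PrimeSpectrum.isClosed_iff_zeroLocus_ideal _).1 hZ
  let F := p.asIdeal.Fiber B
  haveI : IsNoetherianRing F := Algebra.FiniteType.isNoetherianRing p.asIdeal.ResidueField F
  let inc : B →+* F := Algebra.TensorProduct.includeRight.toRingHom
  obtain ⟨_, ⟨T, hT, rfl⟩, hmax⟩ := set_has_maximal_iff_noetherian.2 (inferInstanceAs (IsNoetherian F F))
    ((fun T : Finset B => Ideal.span (inc '' (T : Set B))) '' {T | (T : Set B) ⊆ J})
    ⟨_, ∅, by simp, rfl⟩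
  refine ⟨T, PrimeSpectrum.zeroLocus_anti_mono hT, fun q hq hqp => ?_⟩
  let Q := PrimeSpectrum.preimageEquivFiber R B p ⟨q, hqp⟩
  have hQ : PrimeSpectrum.comap inc Q = q :=
    congrArg Subtype.val ((PrimeSpectrum.preimageEquivFiber R B p).symm_apply_apply ⟨q, hqp⟩)
  intro b hb
  have h1 : Ideal.span (inc '' (↑(insert b T) : Set B)) = Ideal.span (inc '' (T : Set B)) := by
    refine (eq_of_le_of_not_lt (Ideal.span_mono (Set.image_mono (by simp))) ?_).symm
    exact hmax _ ⟨insert b T, by simp only [Set.mem_ofPred_eq, Finset.coe_insert]; exact Set.insert_subset hb hT, rfl⟩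
  have h2 : inc b ∈ Ideal.span (inc '' (T : Set B)) := by
    rw [← h1]; exact Ideal.subset_span ⟨b, by simp, rfl⟩
  have h3 : Ideal.span (inc '' (T : Set B)) ≤ Q.asIdeal := Ideal.span_le.2 (by
    rintro _ ⟨t, ht, rfl⟩
    have := hq ht
    rw [← hQ] at this
    exact this)
  rw [← hQ]
  exact h3 h2

variable {S₀ S' W Q : Scheme.{u}} (j : Q ⟶ W) (f : W ⟶ S₀) (g : S' ⟶ S₀)

/-- The base change of `j` over the base of `f`. -/
noncomputable def kMap : pullback (j ≫ f) g ⟶ pullback f g :=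
  pullback.lift (pullback.fst _ _ ≫ j) (pullback.snd _ _) (by rw [Category.assoc, pullback.condition])

theorem isPullback_kMap : IsPullback (pullback.fst (j ≫ f) g) (kMap j f g) j (pullback.fst f g) := by
  refine IsPullback.of_bot ?_ (pullback.lift_fst _ _ _).symm (IsPullback.of_hasPullback f g)
  rw [kMap, pullback.lift_snd]
  exact IsPullback.of_hasPullback _ _

instance [IsOpenImmersion j] : IsOpenImmersion (kMap j f g) :=
  MorphismProperty.of_isPullback (isPullback_kMap j f g) ‹_›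

theorem fst_notMem_range {z : ↥(pullback f g)} (hz : z ∉ Set.range (kMap j f g)) :
    pullback.fst f g z ∉ Set.range j := by
  rintro ⟨w, hw⟩
  obtain ⟨t, -, ht⟩ := Scheme.exists_preimage_of_isPullback (isPullback_kMap j f g) w z hw
  exact hz ⟨t, ht⟩

/-- Near a point outside the open, covers extend across a quasi-compact part of it. -/
theorem exists_local {X S : Scheme.{u}} (f : X ⟶ S) [Smooth f] (U : X.Opens)
    (h : ∀ x : X, x ∉ U → (2 : WithBot ℕ∞) ≤ ringKrullDim ↑(CInt.fiberStalk f x)) (x : X) (hx : x ∉ U) :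
    ∃ (N : Scheme.{u}) (jN : N ⟶ X) (_ : IsOpenImmersion jN) (T₁ : Scheme.{u}) (k : T₁ ⟶ N)
      (_ : IsOpenImmersion k), x ∈ Set.range jN ∧ (∀ t, jN (k t) ∈ U) ∧ QuasiCompact k ∧
      DepthTwoGen k.opensRange ∧
      ∀ V : FEt.Cat T₁, ∃ Y : FEt.Cat N, Nonempty ((FEt.restrict k).obj Y ≅ V) := by
  classical
  -- a standard smooth chart
  obtain ⟨US, hUS, N1, hN1, hxN, e, hstd⟩ := Smooth.exists_isStandardSmooth f x
  let R : CommRingCat.{u} := Γ(S, US)
  let B : CommRingCat.{u} := Γ(X, N1)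
  letI : Algebra R B := (f.appLE US N1 e).hom.toAlgebra
  haveI : Algebra.IsStandardSmooth R B := hstd
  obtain ⟨n, hn⟩ : ∃ n, Algebra.IsStandardSmoothOfRelativeDimension n R B := by
    obtain ⟨ι, σ, hσ, hι, ⟨P⟩⟩ := ‹Algebra.IsStandardSmooth R B›.out
    exact ⟨P.dimension, ⟨ι, σ, hσ, hι, P, rfl⟩⟩
  let a : Spec (CommRingCat.of B) ⟶ Spec (CommRingCat.of R) := Spec.map (CommRingCat.ofHom (algebraMap R B))
  let j1 : Spec (CommRingCat.of B) ⟶ X := hN1.fromSpec
  let iS : Spec (CommRingCat.of R) ⟶ S := hUS.fromSpec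
  have hsq : j1 ≫ f = a ≫ iS := (hUS.SpecMap_appLE_fromSpec f hN1 e).symm
  haveI : IsOpenImmersion j1 := hN1.isOpenImmersion_fromSpec
  haveI : IsOpenImmersion iS := hUS.isOpenImmersion_fromSpec
  have hdim : ∀ y, ringKrullDim ↑(CInt.fiberStalk a y) = ringKrullDim ↑(CInt.fiberStalk f (j1 y)) := fun y => by
    rw [← dim_fiberStalk_comp_openImmersion a iS y, ← hsq, dim_fiberStalk_openImmersion_comp]
  obtain ⟨x1, hx1⟩ : x ∈ Set.range j1 := hN1.range_fromSpec.symm.subset hxN
  let Z : Set (PrimeSpectrum B) := {q | j1 q ∉ U}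
  have hxZ : x1 ∈ Z := fun hh => hx (hx1 ▸ hh)
  obtain ⟨T, hTZ, hTfib⟩ := exists_finset_fibre (R := R) (B := B) (a x1) Z
    (show IsClosed Z from (j1 ⁻¹ᵁ U).2.isClosed_compl)
  -- the Noetherian model
  obtain ⟨A₀, B₀, _, _, ψ, T₀, hA₀, hB₀, hn₀, hT₀, sq⟩ := exists_model n R B T
  let g : Spec (CommRingCat.of B) ⟶ Spec (CommRingCat.of B₀) := Spec.map (CommRingCat.ofHom ψ)
  let a0 : Spec (CommRingCat.of B₀) ⟶ Spec (CommRingCat.of A₀) :=
    Spec.map (CommRingCat.ofHom (algebraMap A₀ B₀))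
  let gS : Spec (CommRingCat.of R) ⟶ Spec (CommRingCat.of A₀) :=
    Spec.map (CommRingCat.ofHom (algebraMap A₀ R))
  change IsPullback g a a0 gS at sq
  haveI : SmoothOfRelativeDimension n a0 :=
    (HasRingHomProperty.Spec_iff (P := @SmoothOfRelativeDimension n)).2
      (RingHom.locally_of RingHom.isStandardSmoothOfRelativeDimension_respectsIso _
        ((RingHom.isStandardSmoothOfRelativeDimension_algebraMap n).2 hn₀))
  haveI : SmoothOfRelativeDimension n a :=
    (HasRingHomProperty.Spec_iff (P := @SmoothOfRelativeDimension n)).2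
      (RingHom.locally_of RingHom.isStandardSmoothOfRelativeDimension_respectsIso _
        ((RingHom.isStandardSmoothOfRelativeDimension_algebraMap n).2 hn))
  haveI : Smooth a0 := SmoothOfRelativeDimension.smooth n a0
  let V0 := Spec (CommRingCat.of (B₀ ⧸ Ideal.span T₀))
  let ι0 : V0 ⟶ Spec (CommRingCat.of B₀) := Spec.map (CommRingCat.ofHom (Ideal.Quotient.mk (Ideal.span T₀)))
  haveI : IsClosedImmersion ι0 := IsClosedImmersion.spec_of_surjective _ Ideal.Quotient.mk_surjective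
  have hι0 : Set.range ι0 = PrimeSpectrum.zeroLocus T₀ := by
    rw [show Set.range ι0 = Set.range (PrimeSpectrum.comap (Ideal.Quotient.mk (Ideal.span T₀))) from rfl,
      range_comap_of_surjective _ _ Ideal.Quotient.mk_surjective, Ideal.mk_ker, PrimeSpectrum.zeroLocus_span]
  have hgT : ∀ y : Spec (CommRingCat.of B), g y ∈ Set.range ι0 ↔ y ∈ PrimeSpectrum.zeroLocus (T : Set B) := by
    intro y
    rw [hι0, ← hT₀]
    show PrimeSpectrum.comap ψ y ∈ PrimeSpectrum.zeroLocus T₀ ↔ _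
    rw [← Set.mem_preimage, PrimeSpectrum.preimage_comap_zeroLocus]
  -- small fibre dimension near the point
  let ιV := pullback.snd ι0 g
  haveI : IsClosedImmersion ιV := MorphismProperty.pullback_snd ι0 g ‹_›
  have hιV : ∀ y, y ∈ Set.range ιV ↔ y ∈ PrimeSpectrum.zeroLocus (T : Set B) := fun y => by
    rw [← hgT]
    constructor
    · rintro ⟨v, rfl⟩
      exact ⟨pullback.fst ι0 g v, by rw [← Scheme.Hom.comp_apply, pullback.condition, Scheme.Hom.comp_apply]⟩
    · rintro ⟨w, hw⟩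
      obtain ⟨v, -, hv⟩ := Scheme.exists_preimage_of_isPullback (IsPullback.of_hasPullback ι0 g) w y hw
      exact ⟨v, hv⟩
  obtain ⟨v, hv⟩ := (hιV x1).2 (hTZ hxZ)
  obtain ⟨h2n, hle⟩ := fibreDimAt_add_two_le n a ιV v fun z hz hzs => by
    have hzZ : z ∈ Z := hTfib z ((hιV z).1 hz) (by
      rw [← hv]
      exact hzs.trans (Scheme.Hom.comp_apply _ _ _))
    rw [hdim]
    exact h _ hzZ
  rw [GrothLib.AlgSp.fibreDimAt_of_isPullback ((IsPullback.of_hasPullback ι0 g).paste_vert sq) v] at hle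
  let O : Set V0 := {w | FlatMor.fibreDimAt (ι0 ≫ a0) w ≤ ((n - 2 : ℕ) : WithBot ℕ∞)}
  have hO : IsOpen O := Groth.Agent.S0402.result (ι0 ≫ a0) (n - 2)
  have hgx : g x1 = ι0 (pullback.fst ι0 g v) := by
    rw [← hv, ← Scheme.Hom.comp_apply, ← pullback.condition, Scheme.Hom.comp_apply]
  have hbad : g x1 ∉ ι0 '' Oᶜ := by
    rintro ⟨w, hw, hw'⟩
    rw [ι0.isClosedEmbedding.injective (hw'.trans hgx)] at hw
    exact hw hle
  obtain ⟨_, ⟨h0, rfl⟩, hx0, hsub⟩ := PrimeSpectrum.isTopologicalBasis_basic_opens.exists_subset_of_mem_open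
    (show g x1 ∈ (ι0 '' Oᶜ)ᶜ from hbad) (ι0.isClosedMap _ hO.isClosed_compl).isOpen_compl
  let W0 : (Spec (CommRingCat.of B₀)).Opens := PrimeSpectrum.basicOpen h0
  let Q0 : (Spec (CommRingCat.of B₀)).Opens :=
    W0 ⊓ ⟨(Set.range ι0)ᶜ, ι0.isClosedEmbedding.isClosed_range.isOpen_compl⟩
  let j0 : (Q0 : Scheme.{u}) ⟶ (W0 : Scheme.{u}) := (Spec (CommRingCat.of B₀)).homOfLE inf_le_left
  let f0 : (W0 : Scheme.{u}) ⟶ Spec (CommRingCat.of A₀) := W0.ι ≫ a0
  have hcond : ∀ z : (W0 : Scheme.{u}), z ∉ Set.range j0 →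
      (2 : WithBot ℕ∞) ≤ ringKrullDim ↑(CInt.fiberStalk f0 z) := by
    intro z hz
    obtain ⟨w, hw⟩ : W0.ι z ∈ Set.range ι0 := by
      by_contra hzr
      refine hz ⟨⟨W0.ι z, z.2, hzr⟩, ?_⟩
      apply W0.ι.isOpenEmbedding.injective
      rw [← Scheme.Hom.comp_apply, Scheme.homOfLE_ι]
      rfl
    have hwO : w ∈ O := not_not.1 fun hwO => hsub z.2 ⟨w, hwO, hw⟩
    rw [dim_fiberStalk_openImmersion_comp, ← hw]
    refine two_le_dim_fiberStalk n a0 ι0 w (le_trans (add_le_add hwO le_rfl) ?_)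
    exact_mod_cast (show n - 2 + 2 ≤ n by omega)
  haveI : NoetherianSpace (Spec (CommRingCat.of B₀)) := inferInstance
  haveI : IsNoetherian (Spec (CommRingCat.of B₀)) := inferInstance
  haveI : CompactSpace ↥(W0 : Scheme.{u}) := isCompact_iff_compactSpace.mp (NoetherianSpace.isCompact (W0 : Set (Spec (CommRingCat.of B₀))))
  haveI : CompactSpace ↥(Q0 : Scheme.{u}) := isCompact_iff_compactSpace.mp (NoetherianSpace.isCompact (Q0 : Set (Spec (CommRingCat.of B₀))))
  haveI : AlgebraicGeometry.IsNoetherian (W0 : Scheme.{u}) := ⟨⟩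
  haveI : AlgebraicGeometry.IsNoetherian (Q0 : Scheme.{u}) := ⟨⟩
  -- the neighbourhood
  let c : pullback f0 gS ⟶ Spec (CommRingCat.of B) :=
    sq.lift (pullback.fst _ _ ≫ W0.ι) (pullback.snd _ _) (by rw [Category.assoc]; exact pullback.condition)
  have hc : IsPullback (pullback.fst f0 gS) c W0.ι g := by
    refine IsPullback.of_bot ?_ (sq.lift_fst _ _ _).symm sq
    rw [sq.lift_snd]
    exact IsPullback.of_hasPullback f0 gS
  haveI : IsOpenImmersion c := MorphismProperty.of_isPullback hc inferInstance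
  let k := kMap j0 f0 gS
  haveI : QuasiCompact j0 := inferInstance
  haveI : Smooth f0 := inferInstance
  refine ⟨pullback f0 gS, c ≫ j1, inferInstance, pullback (j0 ≫ f0) gS, k, inferInstance, ?_, ?_, ?_, ?_, ?_⟩
  · obtain ⟨y, -, hy⟩ := Scheme.exists_preimage_of_isPullback hc ⟨g x1, hx0⟩ x1 rfl
    exact ⟨y, by rw [Scheme.Hom.comp_apply, hy, hx1]⟩
  · intro t
    by_contra htU
    have h1 : c (k t) ∈ Z := htU
    obtain ⟨w, hw⟩ := (hgT _).2 (hTZ h1)
    have h2 : g (c (k t)) = Q0.ι (pullback.fst (j0 ≫ f0) gS t) := by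
      rw [← Scheme.Hom.comp_apply, ← hc.w, Scheme.Hom.comp_apply, ← Scheme.Hom.comp_apply k,
        ← (isPullback_kMap j0 f0 gS).w, Scheme.Hom.comp_apply, ← Scheme.Hom.comp_apply j0, Scheme.homOfLE_ι]
    exact (pullback.fst (j0 ≫ f0) gS t).2.2 ⟨w, hw.trans h2⟩
  · exact MorphismProperty.of_isPullback (isPullback_kMap j0 f0 gS) ‹QuasiCompact j0›
  · intro z hz
    haveI : Smooth (pullback.snd f0 gS) := MorphismProperty.pullback_snd f0 gS ‹_›
    exact exists_pair (pullback.snd f0 gS) z ((hcond _ (fst_notMem_range j0 f0 gS hz)).trans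
      (dim_fiberStalk_le_of_isPullback (IsPullback.of_hasPullback f0 gS) z))
  · intro V
    haveI : IsNoetherianRing A₀ := hA₀
    obtain ⟨L, hL, VL, ⟨iV⟩⟩ := BC.exists_cover_finSub R (j0 ≫ f0) V
    let sL := BC.stageMap R L
    haveI : Smooth (pullback.snd f0 sL) := MorphismProperty.pullback_snd f0 sL ‹_›
    haveI : Algebra.FiniteType A₀ L := (Subalgebra.fg_iff_finiteType L).mp hL
    haveI : IsNoetherianRing L := Algebra.FiniteType.isNoetherianRing A₀ L
    haveI : IsLocallyNoetherian (pullback f0 sL) :=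
      LocallyOfFiniteType.isLocallyNoetherian (pullback.snd f0 sL)
    haveI : CompactSpace ↥(pullback f0 sL) := inferInstance
    haveI : AlgebraicGeometry.IsNoetherian (pullback f0 sL) := ⟨⟩
    obtain ⟨YL, ⟨iY⟩⟩ := exists_extension (pullback.snd f0 sL) (kMap j0 f0 sL) (fun z hz =>
      (hcond _ (fst_notMem_range j0 f0 sL hz)).trans
        (dim_fiberStalk_le_of_isPullback (IsPullback.of_hasPullback f0 sL) z)) VL
    have hcomm : k ≫ BC.toStage R f0 L = BC.toStage R (j0 ≫ f0) L ≫ kMap j0 f0 sL := by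
      apply pullback.hom_ext
      · simp [k, kMap, sL]
        erw [pullback.lift_fst]
      · show (k ≫ BC.toStage R f0 L) ≫ pullback.snd f0 (BC.stageMap R L) = _
        simp only [Category.assoc, BC.toStage_snd, k, kMap, sL, pullback.lift_snd, pullback.lift_snd_assoc, gS]
    refine ⟨(FEt.restrict (BC.toStage R f0 L)).obj YL, ⟨?_⟩⟩
    exact (GrothLib.FEt21.restrictCompIso k (BC.toStage R f0 L) _ rfl YL).symm ≪≫
      GrothLib.FEt21.restrictCompIso (BC.toStage R (j0 ≫ f0) L) (kMap j0 f0 sL) _ hcomm.symm YL ≪≫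
      (FEt.restrict (BC.toStage R (j0 ≫ f0) L)).mapIso iY ≪≫ iV

end GrothLib.RelPur21
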