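import Groth.Agent.RelPur21.Local
import Groth.Agent.Lib.FEt21.EtaleLocal

/-!
# Relative purity
-/

set_option autoImplicit false
set_option backward.isDefEq.respectTransparency false
set_option linter.style.haveILetI false

universe u

open CategoryTheory CategoryTheory.Limits AlgebraicGeometry TopologicalSpace
open GrothLib.Depth (DepthTwoGen)

namespace GrothLib.RelPur21

theorem locallyDepthTwo_of_qc {Y : Scheme.{u}} {U : Y.Opens} [QuasiCompact U.ι] (h : DepthTwoGen U) :
    LocallyDepthTwo U := by
  refine ⟨h, fun y _ => ⟨⊤, (⊤ : Y.Opens).ι ⁻¹ᵁ U, trivial, le_rfl, ?_, depthTwoGen_preimage _ h⟩⟩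
  exact MorphismProperty.of_isPullback (isPullback_morphismRestrict (⊤ : Y.Opens).ι U) ‹QuasiCompact U.ι›

theorem quasiCompact_opensRange_ι {Y T : Scheme.{u}} (k : T ⟶ Y) [IsOpenImmersion k] [QuasiCompact k] :
    QuasiCompact k.opensRange.ι := by
  rw [← Scheme.Hom.isoOpensRange_inv_comp k]
  infer_instance

/-- The gluing datum of a local extension. -/
theorem exists_datum {X T N : Scheme.{u}} (j : T ⟶ X) (u : N ⟶ X) (V : FEt.Cat T) (A : FEt.Cat N)
    (φ : (FEt.restrict (pullback.fst u j)).obj A ≅ (FEt.restrict (pullback.snd u j)).obj V) :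
    ∃ m : pullback (A.hom ≫ u) j ⟶ V.left,
      IsPullback (pullback.fst _ j ≫ A.hom) m u (V.hom ≫ j) ∧ m ≫ V.hom = pullback.snd _ _ := by
  have hA : IsPullback (pullback.fst A.hom (pullback.fst u j))
      (pullback.snd A.hom (pullback.fst u j) ≫ pullback.snd u j) (A.hom ≫ u) j :=
    ((IsPullback.of_hasPullback A.hom (pullback.fst u j)).flip.paste_horiz
      (IsPullback.of_hasPullback u j).flip).flip
  let E := hA.isoPullback
  let q : pullback A.hom (pullback.fst u j) ≅ pullback V.hom (pullback.snd u j) :=
    ((MorphismProperty.Over.forget FEt.prop ⊤ _ ⋙ Over.forget _).mapIso φ)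
  have hq : q.hom ≫ pullback.snd V.hom (pullback.snd u j) = pullback.snd A.hom (pullback.fst u j) :=
    Over.w φ.hom.hom
  refine ⟨E.inv ≫ q.hom ≫ pullback.fst _ _, ?_, ?_⟩
  · have hV : IsPullback (pullback.snd V.hom (pullback.snd u j) ≫ pullback.fst u j)
        (pullback.fst V.hom (pullback.snd u j)) u (V.hom ≫ j) :=
      (IsPullback.of_hasPullback V.hom (pullback.snd u j)).flip.paste_horiz (IsPullback.of_hasPullback u j)
        |> fun h => h
    refine hV.of_iso (q.symm ≪≫ E) (Iso.refl _) (Iso.refl _) (Iso.refl _) ?_ ?_ (by simp) (by simp)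
    · simp only [Iso.refl_hom, Category.comp_id, Iso.trans_hom, Iso.symm_hom, Category.assoc]
      rw [Iso.eq_inv_comp, ← Category.assoc E.hom, hA.isoPullback_hom_fst, pullback.condition,
        ← Category.assoc q.hom, hq]
    · simp [Iso.trans_hom]
  · rw [Category.assoc, Category.assoc, pullback.condition, reassoc_of% hq, Iso.inv_comp_eq,
      hA.isoPullback_hom_snd]

/-- Restriction across a closed set of fibre codimension at least two is an equivalence. -/
theorem isEquivalence {X S T : Scheme.{u}} (f : X ⟶ S) [Smooth f] (j : T ⟶ X) [IsOpenImmersion j]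
    (h : ∀ x : X, x ∉ j.opensRange → (2 : WithBot ℕ∞) ≤ ringKrullDim ↑(CInt.fiberStalk f x)) :
    (FEt.restrict j).IsEquivalence := by
  classical
  have hloc := fun (x : {x : X // x ∉ j.opensRange}) => exists_local f j.opensRange h x.1 x.2
  choose N jN hjN T₁ k hk hxN hkU hkqc hkd hkV using hloc
  have hU : LocallyDepthTwo j.opensRange := by
    refine ⟨fun z hz => exists_pair f z (h z hz), fun z hz => ?_⟩
    let i : {x : X // x ∉ j.opensRange} := ⟨z, hz⟩
    haveI := hjN i; haveI := hk i; haveI := hkqc i
    let e := (jN i).isoOpensRange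
    haveI := quasiCompact_opensRange_ι (k i)
    refine ⟨(jN i).opensRange, e.inv ⁻¹ᵁ (k i).opensRange, hxN i, ?_, ?_, depthTwoGen_preimage _ (hkd i)⟩
    · rintro w ⟨t, ht⟩
      show (jN i).opensRange.ι w ∈ j.opensRange
      have := hkU i t
      rw [show (k i) t = e.inv w from ht, ← Scheme.Hom.comp_apply,
        Scheme.Hom.isoOpensRange_inv_comp] at this
      exact this
    · exact MorphismProperty.of_isPullback (isPullback_morphismRestrict e.inv (k i).opensRange) inferInstance
  obtain ⟨hfull, hfaith⟩ := fullyFaithful j hU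
  haveI := hfull
  haveI := hfaith
  suffices (FEt.restrict j).EssSurj from { }
  refine ⟨fun V => ?_⟩
  haveI : Etale j := inferInstance
  let Yi : Option {x : X // x ∉ j.opensRange} → Scheme.{u} := fun o => o.elim T N
  let u : ∀ o, Yi o ⟶ X := fun o => match o with | none => j | some i => jN i
  haveI : ∀ o, Etale (u o) := fun o => match o with
    | none => inferInstanceAs (Etale j)
    | some i => by haveI := hjN i; exact inferInstanceAs (Etale (jN i))
  have hdat : ∀ o, ∃ (A : FEt.Cat (Yi o)) (m : pullback (A.hom ≫ u o) j ⟶ V.left),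
      IsPullback (pullback.fst _ j ≫ A.hom) m (u o) (V.hom ≫ j) ∧ m ≫ V.hom = pullback.snd _ _ := by
    intro o
    match o with
    | none =>
      have hfs : pullback.fst j j = pullback.snd j j := (cancel_mono j).1 pullback.condition
      exact ⟨V, exists_datum j j V V (eqToIso (by rw [hfs]))⟩
    | some i =>
      haveI := hjN i; haveI := hk i; haveI := hkqc i
      obtain ⟨Y, ⟨iY⟩⟩ := hkV i ((FEt.restrict (IsOpenImmersion.lift j (k i ≫ jN i) (by
        rintro _ ⟨t, rfl⟩; exact hkU i t))).obj V)
      let b := IsOpenImmersion.lift j (k i ≫ jN i) (by rintro _ ⟨t, rfl⟩; exact hkU i t)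
      let l : T₁ i ⟶ pullback (jN i) j := pullback.lift (k i) b (IsOpenImmersion.lift_fac _ _ _).symm
      haveI : IsOpenImmersion (l ≫ pullback.fst (jN i) j) := by rw [pullback.lift_fst]; infer_instance
      haveI : IsOpenImmersion l := IsOpenImmersion.of_comp l (pullback.fst (jN i) j)
      haveI : QuasiCompact (l ≫ pullback.fst (jN i) j) := by rw [pullback.lift_fst]; infer_instance
      haveI : QuasiSeparated (pullback.fst (jN i) j) := inferInstance
      haveI : QuasiCompact l := MorphismProperty.of_postcomp (W := @QuasiCompact) (W' := @QuasiSeparated)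
        l (pullback.fst (jN i) j) inferInstance inferInstance
      haveI := quasiCompact_opensRange_ι l
      have hl : DepthTwoGen l.opensRange := by
        have : l.opensRange = (pullback.fst (jN i) j) ⁻¹ᵁ (k i).opensRange := by
          refine Opens.ext (Set.ext fun z => ⟨?_, ?_⟩)
          · rintro ⟨t, rfl⟩
            exact ⟨t, by rw [← Scheme.Hom.comp_apply, pullback.lift_fst]⟩
          · rintro ⟨t, ht⟩
            refine ⟨t, (pullback.fst (jN i) j).isOpenEmbedding.injective ?_⟩
            rw [← Scheme.Hom.comp_apply, pullback.lift_fst]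
            exact ht
        rw [this]
        exact depthTwoGen_preimage _ (hkd i)
      obtain ⟨_, _⟩ := fullyFaithful l (locallyDepthTwo_of_qc hl)
      refine ⟨Y, exists_datum j (jN i) V Y ((FEt.restrict l).preimageIso ?_)⟩
      exact (GrothLib.FEt21.restrictCompIso l (pullback.fst (jN i) j) (k i) (pullback.lift_fst _ _ _) Y).symm ≪≫
        iY ≪≫ GrothLib.FEt21.restrictCompIso l (pullback.snd (jN i) j) b (pullback.lift_snd _ _ _) V
  choose A m hm hmv using hdat
  refine GrothLib.FEt21.exists_restrict_iso u V A m hm hmv (etaleFF j hU) fun y => ?_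
  by_cases hy : y ∈ j.opensRange
  · exact ⟨none, hy⟩
  · exact ⟨some ⟨y, hy⟩, hxN ⟨y, hy⟩⟩

end GrothLib.RelPur21
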